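import Mathlib
import Cfsg.Prelude.Def_GeometricClasses
import Cfsg.Prelude.Def_ClassicalGeometry

/-!
# K-SpF pack (S5975, architect helper38): shared definitions

`Sp_{2d}(q)` and the subgroups of type `Sp_{2d/k}(q^k).k` = normalisers of a field subalgebra `K` of degree `k` of the
matrix algebra all of whose elements are self-adjoint for the symplectic form `f` and satisfy `f (a v) v = 0`.
-/

set_option autoImplicit false

namespace Cfsg.Agent.Lib.Helper38.SpF

open Cfsg Cfsg.Geo
open scoped Matrix MatrixGroups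

variable {F : Type*} [Field F]

/-- the hypotheses on `K` in S5975: a field subalgebra of degree `k`, self-adjoint, with `f (a v) v = 0` -/
structure IsSType (d k : ℕ) (K : Subalgebra F (Matrix (Fin d ⊕ Fin d) (Fin d ⊕ Fin d) F)) : Prop where
  field : IsFieldSubalgebra k K
  sa : IsSelfAdjointFor (sympForm d F) K
  alt : ∀ a ∈ K, ∀ v : Fin d ⊕ Fin d → F, sympForm d F (a *ᵥ v) v = 0

/-- the `K`-linear combination `∑ a_j u_j + ∑ b_j w_j` -/
def comb {d m : ℕ} (K : Subalgebra F (Matrix (Fin d ⊕ Fin d) (Fin d ⊕ Fin d) F))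
    (u w : Fin m → (Fin d ⊕ Fin d → F)) (a b : Fin m → ↥K) : Fin d ⊕ Fin d → F :=
  ∑ j, (a j : Matrix (Fin d ⊕ Fin d) (Fin d ⊕ Fin d) F) *ᵥ u j +
    ∑ j, (b j : Matrix (Fin d ⊕ Fin d) (Fin d ⊕ Fin d) F) *ᵥ w j

/-- a `K`-symplectic frame: `V = ⊕ K u_j ⊕ K w_j` and `f = lam ∘ (standard alternating K-form)` in these coordinates -/
structure IsFrame (d m : ℕ) (K : Subalgebra F (Matrix (Fin d ⊕ Fin d) (Fin d ⊕ Fin d) F))
    (lam : ↥K →ₗ[F] F) (u w : Fin m → (Fin d ⊕ Fin d → F)) : Prop where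
  lam_ne : lam ≠ 0
  bij : Function.Bijective (fun ab : (Fin m → ↥K) × (Fin m → ↥K) => comb K u w ab.1 ab.2)
  form : ∀ a b a' b' : Fin m → ↥K,
    sympForm d F (comb K u w a b) (comb K u w a' b') = lam (∑ j, (a j * b' j - b j * a' j))

/-- the number `c` attached to `i = ord_r(q)`: the dimension of the support of a minimal element of order `r` -/
def cOf (i : ℕ) : ℕ := if Even i then i else 2 * i

end Cfsg.Agent.Lib.Helper38.SpF
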