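import Mathlib
import Cfsg.Prelude.Def_GeometricClasses
import Cfsg.Prelude.Def_ClassicalGeometry
import Cfsg.Agent.Lib.Helper38.SpF.Defs
import Cfsg.Agent.Lib.Helper49.SpInvDefs

/-!
# K-SpF pack (S5975, architect helper38): the glue

`SKeys` bundles the 14 keystone statements of `notes/S5975_keystones.lean.txt`; `main` proves the row from the bundle.
-/

set_option autoImplicit false
set_option linter.unusedVariables false

namespace Cfsg.Agent.Lib.Helper38.SpF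

open Cfsg Cfsg.Geo
open Cfsg.Agent.Lib.Helper49.SpInv (spOrd)
open scoped Matrix MatrixGroups

universe u

/-- the bundle of the keystones of the pack -/
structure SKeys : Prop where
  normalizer_dichotomy : ∀ {F : Type u} [Field F] [Finite F] {ι : Type} [Fintype ι] [DecidableEq ι] (k : ℕ) (hk : k.Prime)
    (K : Subalgebra F (Matrix ι ι F)) (hK : IsFieldSubalgebra k K) (y : GL ι F) (hy : y ∈ subalgebraNormalizer K)
    (r : ℕ) (hr : r.Prime) (hyr : ∃ z : F, ((y ^ r : GL ι F) : Matrix ι ι F) = z • (1 : Matrix ι ι F)),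
    (∀ a ∈ K, (y : Matrix ι ι F) * a = a * (y : Matrix ι ι F)) ∨
    (r = k ∧ ∀ a ∈ K, (y : Matrix ι ι F) * a = a * (y : Matrix ι ι F) → ∃ c : F, a = c • (1 : Matrix ι ι F))
  two_mul_dvd_finrank : ∀ {F : Type u} [Field F] (d k : ℕ) (K : Subalgebra F (Matrix (Fin d ⊕ Fin d) (Fin d ⊕ Fin d) F)) (hS : IsSType d k K)
    (W : Submodule F (Fin d ⊕ Fin d → F)) (hW : ∀ a ∈ K, ∀ w ∈ W, a *ᵥ w ∈ W)
    (hnd : ∀ u ∈ W, (∀ w ∈ W, sympForm d F u w = 0) → u = 0),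
    2 * k ∣ Module.finrank F W
  mul_finrank_ker_le : ∀ {F : Type u} [Field F] {ι : Type} [Fintype ι] [DecidableEq ι] (k : ℕ)
    (K : Subalgebra F (Matrix ι ι F)) (hK : IsFieldSubalgebra k K) (y : GL ι F) (hy : y ∈ subalgebraNormalizer K)
    (hfix : ∀ a ∈ K, (y : Matrix ι ι F) * a = a * (y : Matrix ι ι F) → ∃ c : F, a = c • (1 : Matrix ι ι F)),
    k * Module.finrank F (LinearMap.ker (Matrix.toLin' ((y : Matrix ι ι F) - 1))) ≤ Fintype.card ι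
  exists_frame : ∀ {F : Type u} [Field F] [Finite F] (d k : ℕ) (hd : 0 < d) (K : Subalgebra F (Matrix (Fin d ⊕ Fin d) (Fin d ⊕ Fin d) F)) (hS : IsSType d k K),
    ∃ (m : ℕ) (lam : ↥K →ₗ[F] F) (u w : Fin m → (Fin d ⊕ Fin d → F)), d = k * m ∧ IsFrame d m K lam u w
  relIndex_mul_dvd : ∀ {F : Type u} [Field F] [Fintype F] {q : ℕ} (hq : Fintype.card F = q) (d k m : ℕ)
    (K : Subalgebra F (Matrix (Fin d ⊕ Fin d) (Fin d ⊕ Fin d) F)) (hK : IsFieldSubalgebra k K)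
    (lam : ↥K →ₗ[F] F) (u w : Fin m → (Fin d ⊕ Fin d → F)) (hdm : d = k * m) (hfr : IsFrame d m K lam u w),
    (subalgebraNormalizer K).relIndex (spGL d F) * spOrd (q ^ k) m ∣ spOrd q d
  arith : ∀ (q k m N r : ℕ) (hq : 2 ≤ q) (hk : k.Prime) (hm : 1 ≤ m) [Fact r.Prime] (hr2 : r ≠ 2) (hrq : ¬ r ∣ q)
    (hN : N * spOrd (q ^ k) m ∣ spOrd q (k * m)) (hrN : r ∣ N),
    cOf (orderOf (q : ZMod r)) ≤ 2 * (k * m) ∧ ¬ 2 * k ∣ cOf (orderOf (q : ZMod r))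
  arith_eq : ∀ (q k : ℕ) [Fact k.Prime] (hk2 : k ≠ 2) (hkq : ¬ k ∣ q),
    cOf (orderOf (q : ZMod k)) ≤ k - 1
  exists_min_semisimple : ∀ {F : Type u} [Field F] [Fintype F] {p : ℕ} [Fact p.Prime] [CharP F p] {q : ℕ} (hq : Fintype.card F = q) (d : ℕ) (hd : 2 ≤ d)
    (r : ℕ) [Fact r.Prime] (hr2 : r ≠ 2) (hrp : r ≠ p) (hcd : cOf (orderOf (q : ZMod r)) ≤ 2 * d),
    ∃ x ∈ spGL d F, (x ^ r : GL (Fin d ⊕ Fin d) F) = 1 ∧
      (∀ z : F, (x : Matrix (Fin d ⊕ Fin d) (Fin d ⊕ Fin d) F) ≠ z • (1 : Matrix (Fin d ⊕ Fin d) (Fin d ⊕ Fin d) F)) ∧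
      ∀ g ∈ spGL d F,
        Module.finrank F (LinearMap.ker (Matrix.toLin' (((g⁻¹ * x * g : GL (Fin d ⊕ Fin d) F) : Matrix (Fin d ⊕ Fin d) (Fin d ⊕ Fin d) F) - 1))) +
          cOf (orderOf (q : ZMod r)) = 2 * d ∧
        ∀ u ∈ LinearMap.range (Matrix.toLin' (((g⁻¹ * x * g : GL (Fin d ⊕ Fin d) F) : Matrix (Fin d ⊕ Fin d) (Fin d ⊕ Fin d) F) - 1)),
          (∀ w ∈ LinearMap.range (Matrix.toLin' (((g⁻¹ * x * g : GL (Fin d ⊕ Fin d) F) : Matrix (Fin d ⊕ Fin d) (Fin d ⊕ Fin d) F) - 1)),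
            sympForm d F u w = 0) → u = 0
  derange_unip : ∀ {F : Type u} [Field F] [Fintype F] {p : ℕ} [Fact p.Prime] [CharP F p] (d : ℕ) (hd : 2 ≤ d) (k : ℕ) (hk : 2 ≤ k)
    (K : Subalgebra F (Matrix (Fin d ⊕ Fin d) (Fin d ⊕ Fin d) F)) (hK : IsFieldSubalgebra k K),
    ∃ x ∈ spGL d F, (x ^ p : GL (Fin d ⊕ Fin d) F) = 1 ∧
      (∀ z : F, (x : Matrix (Fin d ⊕ Fin d) (Fin d ⊕ Fin d) F) ≠ z • (1 : Matrix (Fin d ⊕ Fin d) (Fin d ⊕ Fin d) F)) ∧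
      ∀ g ∈ spGL d F, g⁻¹ * x * g ∉ subalgebraNormalizer K
  exists_invol_two : ∀ {F : Type u} [Field F] [Fintype F] (h2 : (2 : F) ≠ 0) (d : ℕ) (hd : 2 ≤ d),
    ∃ x ∈ spGL d F, (x : Matrix (Fin d ⊕ Fin d) (Fin d ⊕ Fin d) F) * (x : Matrix (Fin d ⊕ Fin d) (Fin d ⊕ Fin d) F) = 1 ∧
      (∀ z : F, (x : Matrix (Fin d ⊕ Fin d) (Fin d ⊕ Fin d) F) ≠ z • (1 : Matrix (Fin d ⊕ Fin d) (Fin d ⊕ Fin d) F)) ∧
      ∀ g ∈ spGL d F,
        Module.finrank F (LinearMap.ker (Matrix.toLin' (((g⁻¹ * x * g : GL (Fin d ⊕ Fin d) F) : Matrix (Fin d ⊕ Fin d) (Fin d ⊕ Fin d) F) + 1))) = 2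
  invol_obstruction : ∀ {F : Type u} [Field F] [Fintype F] (h2 : (2 : F) ≠ 0) (d k : ℕ) (hk : k.Prime)
    (K : Subalgebra F (Matrix (Fin d ⊕ Fin d) (Fin d ⊕ Fin d) F)) (hS : IsSType d k K)
    (y : GL (Fin d ⊕ Fin d) F) (hy : y ∈ spGL d F) (hyN : y ∈ subalgebraNormalizer K)
    (hy2 : (y : Matrix (Fin d ⊕ Fin d) (Fin d ⊕ Fin d) F) * (y : Matrix (Fin d ⊕ Fin d) (Fin d ⊕ Fin d) F) = 1)
    (hker : Module.finrank F (LinearMap.ker (Matrix.toLin' ((y : Matrix (Fin d ⊕ Fin d) (Fin d ⊕ Fin d) F) + 1))) = 2)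
    (hT1 : (∀ a ∈ K, (y : Matrix (Fin d ⊕ Fin d) (Fin d ⊕ Fin d) F) * a = a * (y : Matrix (Fin d ⊕ Fin d) (Fin d ⊕ Fin d) F)) ∨
      (2 = k ∧ ∀ a ∈ K, (y : Matrix (Fin d ⊕ Fin d) (Fin d ⊕ Fin d) F) * a = a * (y : Matrix (Fin d ⊕ Fin d) (Fin d ⊕ Fin d) F) →
        ∃ c : F, a = c • (1 : Matrix (Fin d ⊕ Fin d) (Fin d ⊕ Fin d) F)))
    (hT3 : ∀ W : Submodule F (Fin d ⊕ Fin d → F), (∀ a ∈ K, ∀ w ∈ W, a *ᵥ w ∈ W) →
      (∀ u ∈ W, (∀ w ∈ W, sympForm d F u w = 0) → u = 0) → 2 * k ∣ Module.finrank F W),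
    d = 2 ∧ k = 2
  exists_invols_of_frame : ∀ {F : Type u} [Field F] [Fintype F] (h2 : (2 : F) ≠ 0)
    (K : Subalgebra F (Matrix (Fin 2 ⊕ Fin 2) (Fin 2 ⊕ Fin 2) F)) (hS : IsSType 2 2 K)
    (lam : ↥K →ₗ[F] F) (u w : Fin 1 → (Fin 2 ⊕ Fin 2 → F)) (hfr : IsFrame 2 1 K lam u w),
    (∃ y ∈ spGL 2 F, y ∈ subalgebraNormalizer K ∧
      (y : Matrix (Fin 2 ⊕ Fin 2) (Fin 2 ⊕ Fin 2) F) * (y : Matrix (Fin 2 ⊕ Fin 2) (Fin 2 ⊕ Fin 2) F) = 1 ∧
      (y : Matrix (Fin 2 ⊕ Fin 2) (Fin 2 ⊕ Fin 2) F) ≠ 1 ∧ (y : Matrix (Fin 2 ⊕ Fin 2) (Fin 2 ⊕ Fin 2) F) ≠ -1) ∧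
    (∃ y ∈ spGL 2 F, y ∈ subalgebraNormalizer K ∧
      (y : Matrix (Fin 2 ⊕ Fin 2) (Fin 2 ⊕ Fin 2) F) * (y : Matrix (Fin 2 ⊕ Fin 2) (Fin 2 ⊕ Fin 2) F) = -1)
  sp4_invol_conj_pos : ∀ {F : Type u} [Field F] [Fintype F] (hodd : Odd (Fintype.card F)) (x y : GL (Fin 2 ⊕ Fin 2) F) (hx : x ∈ spGL 2 F) (hy : y ∈ spGL 2 F)
    (hx2 : (x : Matrix (Fin 2 ⊕ Fin 2) (Fin 2 ⊕ Fin 2) F) * (x : Matrix (Fin 2 ⊕ Fin 2) (Fin 2 ⊕ Fin 2) F) = 1)
    (hx1 : (x : Matrix (Fin 2 ⊕ Fin 2) (Fin 2 ⊕ Fin 2) F) ≠ 1) (hx1' : (x : Matrix (Fin 2 ⊕ Fin 2) (Fin 2 ⊕ Fin 2) F) ≠ -1)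
    (hy2 : (y : Matrix (Fin 2 ⊕ Fin 2) (Fin 2 ⊕ Fin 2) F) * (y : Matrix (Fin 2 ⊕ Fin 2) (Fin 2 ⊕ Fin 2) F) = 1)
    (hy1 : (y : Matrix (Fin 2 ⊕ Fin 2) (Fin 2 ⊕ Fin 2) F) ≠ 1) (hy1' : (y : Matrix (Fin 2 ⊕ Fin 2) (Fin 2 ⊕ Fin 2) F) ≠ -1),
    ∃ g ∈ spGL 2 F, g⁻¹ * x * g = y
  sp4_invol_conj_neg : ∀ {F : Type u} [Field F] [Fintype F] (hodd : Odd (Fintype.card F)) (x y : GL (Fin 2 ⊕ Fin 2) F) (hx : x ∈ spGL 2 F) (hy : y ∈ spGL 2 F)
    (hx2 : (x : Matrix (Fin 2 ⊕ Fin 2) (Fin 2 ⊕ Fin 2) F) * (x : Matrix (Fin 2 ⊕ Fin 2) (Fin 2 ⊕ Fin 2) F) = -1)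
    (hy2 : (y : Matrix (Fin 2 ⊕ Fin 2) (Fin 2 ⊕ Fin 2) F) * (y : Matrix (Fin 2 ⊕ Fin 2) (Fin 2 ⊕ Fin 2) F) = -1),
    ∃ g ∈ spGL 2 F, g⁻¹ * x * g = y

/-! ## Small glue lemmas -/

section
variable {F : Type u} [Field F]

/-- a scalar square of a symplectic matrix is `± 1` -/
theorem sq_scalar (d : ℕ) (hd : 1 ≤ d) (x : GL (Fin d ⊕ Fin d) F) (hx : x ∈ spGL d F) (z : F)
    (hz : (x : Matrix (Fin d ⊕ Fin d) (Fin d ⊕ Fin d) F) * (x : Matrix (Fin d ⊕ Fin d) (Fin d ⊕ Fin d) F) =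
      z • (1 : Matrix (Fin d ⊕ Fin d) (Fin d ⊕ Fin d) F)) : z = 1 ∨ z = -1 := by
  have hx' : ∀ u v, sympForm d F ((x : Matrix (Fin d ⊕ Fin d) (Fin d ⊕ Fin d) F) *ᵥ u)
      ((x : Matrix (Fin d ⊕ Fin d) (Fin d ⊕ Fin d) F) *ᵥ v) = sympForm d F u v := hx
  let i0 : Fin d := ⟨0, by omega⟩
  let u : Fin d ⊕ Fin d → F := Pi.single (Sum.inl i0) 1
  let v : Fin d ⊕ Fin d → F := Pi.single (Sum.inr i0) 1
  have huv : sympForm d F u v = -1 := by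
    simp [sympForm, u, v, Matrix.J, Matrix.mulVec_single, Matrix.fromBlocks]
  have h1 := hx' ((x : Matrix (Fin d ⊕ Fin d) (Fin d ⊕ Fin d) F) *ᵥ u)
    ((x : Matrix (Fin d ⊕ Fin d) (Fin d ⊕ Fin d) F) *ᵥ v)
  rw [hx' u v, Matrix.mulVec_mulVec, Matrix.mulVec_mulVec, hz, Matrix.smul_mulVec, Matrix.smul_mulVec,
    Matrix.one_mulVec, Matrix.one_mulVec] at h1
  have h2 : sympForm d F (z • u) (z • v) = z * z * sympForm d F u v := by
    simp only [sympForm, Matrix.mulVec_smul, dotProduct_smul, smul_dotProduct, smul_eq_mul]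
    ring
  rw [h2, huv] at h1
  have h3 : (z - 1) * (z + 1) = 0 := by linear_combination -h1
  rcases mul_eq_zero.mp h3 with h | h
  · left; linear_combination h
  · right; linear_combination h

end

section
variable {F : Type u} [Field F]

/-- conjugates of an element with `x * x = 1` -/
theorem conj_mul_self (ι : Type) [Fintype ι] [DecidableEq ι] (x g : GL ι F)
    (hx : (x : Matrix ι ι F) * (x : Matrix ι ι F) = 1) :
    ((g⁻¹ * x * g : GL ι F) : Matrix ι ι F) * ((g⁻¹ * x * g : GL ι F) : Matrix ι ι F) = 1 := by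
  have hx' : x * x = 1 := Units.ext (by simpa using hx)
  have h : (g⁻¹ * x * g) * (g⁻¹ * x * g) = 1 := by
    calc (g⁻¹ * x * g) * (g⁻¹ * x * g) = g⁻¹ * (x * x) * g := by group
      _ = 1 := by rw [hx']; group
  have := congrArg (fun t : GL ι F => (t : Matrix ι ι F)) h
  simpa using this

/-- conjugates of an element with `x ^ r = 1` -/
theorem conj_pow_eq_one (ι : Type) [Fintype ι] [DecidableEq ι] (x g : GL ι F) (r : ℕ) (hx : x ^ r = 1) :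
    (g⁻¹ * x * g) ^ r = 1 := by
  have : g⁻¹ * x * g = g⁻¹ * x * g⁻¹⁻¹ := by rw [inv_inv]
  rw [this, conj_pow, hx]
  group

/-- the range of `y - 1` is invariant under everything commuting with `y` -/
theorem range_invariant (ι : Type) [Fintype ι] [DecidableEq ι] (y a : Matrix ι ι F) (hc : y * a = a * y)
    (w : ι → F) (hw : w ∈ LinearMap.range (Matrix.toLin' (y - 1))) :
    a *ᵥ w ∈ LinearMap.range (Matrix.toLin' (y - 1)) := by
  obtain ⟨v, rfl⟩ := hw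
  refine ⟨a *ᵥ v, ?_⟩
  rw [Matrix.toLin'_apply, Matrix.toLin'_apply, Matrix.mulVec_mulVec, Matrix.mulVec_mulVec]
  congr 1
  rw [Matrix.sub_mul, Matrix.mul_sub, hc, Matrix.one_mul, Matrix.mul_one]

end

/-! ## The row -/

theorem main (S : SKeys.{u}) {F : Type u} [Field F] [Fintype F] {p : ℕ} [Fact p.Prime] [CharP F p] {q : ℕ}
    (hq : Fintype.card F = q) (d : ℕ) (hd : 2 ≤ d) (k : ℕ) (hk : k.Prime)
    (K : Subalgebra F (Matrix (Fin d ⊕ Fin d) (Fin d ⊕ Fin d) F)) (hK : IsFieldSubalgebra k K)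
    (hKf : IsSelfAdjointFor (sympForm d F) K)
    (hKalt : ∀ a ∈ K, ∀ v : Fin d ⊕ Fin d → F, sympForm d F (a *ᵥ v) v = 0)
    (r : ℕ) [Fact r.Prime]
    (hΩ : r ∣ (subalgebraNormalizer K).relIndex (spGL d F)) :
    (∀ x ∈ spGL d F, (∃ z : F, ((x ^ r : GL (Fin d ⊕ Fin d) F) : Matrix (Fin d ⊕ Fin d) (Fin d ⊕ Fin d) F) =
        z • (1 : Matrix (Fin d ⊕ Fin d) (Fin d ⊕ Fin d) F)) →
      (∀ z : F, (x : Matrix (Fin d ⊕ Fin d) (Fin d ⊕ Fin d) F) ≠ z • (1 : Matrix (Fin d ⊕ Fin d) (Fin d ⊕ Fin d) F)) →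
      ∃ g ∈ spGL d F, g⁻¹ * x * g ∈ subalgebraNormalizer K) ↔
    (r = 2 ∧ d = 2 ∧ k = 2 ∧ Odd q) := by
  classical
  have hS : IsSType d k K := ⟨hK, hKf, hKalt⟩
  have hp : p.Prime := Fact.out
  have hr : r.Prime := Fact.out
  obtain ⟨n, _, hqn⟩ := FiniteField.card F p
  rw [hq] at hqn
  have hq2 : 2 ≤ q := by rw [← hq]; exact Fintype.one_lt_card
  have hone : ∀ t : GL (Fin d ⊕ Fin d) F, t = 1 →
      ∃ z : F, (t : Matrix (Fin d ⊕ Fin d) (Fin d ⊕ Fin d) F) = z • (1 : Matrix (Fin d ⊕ Fin d) (Fin d ⊕ Fin d) F) := by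
    intro t ht
    exact ⟨1, by rw [ht, one_smul]; rfl⟩
  constructor
  · intro hall
    by_cases hrp : r = p
    · -- unipotent case
      exfalso
      subst hrp
      obtain ⟨x, hx, hxp, hxns, hder⟩ := S.derange_unip d hd k hk.two_le K hK
      obtain ⟨g, hg, hgN⟩ := hall x hx (hone _ hxp) hxns
      exact hder g hg hgN
    by_cases hr2 : r = 2
    · -- involutions
      subst hr2
      have hp2 : p ≠ 2 := fun h => hrp h.symm
      have h2F : (2 : F) ≠ 0 := by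
        intro h0
        have h0' : ((2 : ℕ) : F) = 0 := by exact_mod_cast h0
        rw [CharP.cast_eq_zero_iff F p] at h0'
        exact hp2 ((Nat.prime_dvd_prime_iff_eq hp Nat.prime_two).mp h0')
      have hoddq : Odd q := by
        rw [hqn]
        exact (hp.odd_of_ne_two hp2).pow
      obtain ⟨x, hx, hx2, hxns, hconj⟩ := S.exists_invol_two h2F d hd
      have hxpow : ∃ z : F, ((x ^ 2 : GL (Fin d ⊕ Fin d) F) : Matrix (Fin d ⊕ Fin d) (Fin d ⊕ Fin d) F) =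
          z • (1 : Matrix (Fin d ⊕ Fin d) (Fin d ⊕ Fin d) F) := by
        refine ⟨1, ?_⟩
        rw [pow_two, Units.val_mul, hx2, one_smul]
      obtain ⟨g, hg, hgN⟩ := hall x hx hxpow hxns
      have hy : g⁻¹ * x * g ∈ spGL d F := mul_mem (mul_mem (inv_mem hg) hx) hg
      have hy2 := conj_mul_self (Fin d ⊕ Fin d) x g hx2
      have hypow : ∃ z : F, (((g⁻¹ * x * g) ^ 2 : GL (Fin d ⊕ Fin d) F) : Matrix (Fin d ⊕ Fin d) (Fin d ⊕ Fin d) F) =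
          z • (1 : Matrix (Fin d ⊕ Fin d) (Fin d ⊕ Fin d) F) := by
        refine ⟨1, ?_⟩
        rw [pow_two, Units.val_mul, hy2, one_smul]
      have hT1 := S.normalizer_dichotomy k hk K hK (g⁻¹ * x * g) hgN 2 Nat.prime_two hypow
      obtain ⟨hd2, hk2⟩ := S.invol_obstruction h2F d k hk K hS (g⁻¹ * x * g) hy hgN hy2 (hconj g hg) hT1
        (fun W hW hnd => S.two_mul_dvd_finrank d k K hS W hW hnd)
      exact ⟨rfl, hd2, hk2, hoddq⟩
    · -- odd `r ≠ p`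
      exfalso
      have hrq : ¬ r ∣ q := by
        intro h
        rw [hqn] at h
        exact hrp ((Nat.prime_dvd_prime_iff_eq hr hp).mp (hr.dvd_of_dvd_pow h))
      obtain ⟨m, lam, u, w, hdm, hfr⟩ := S.exists_frame d k (by omega) K hS
      have hA0 := S.relIndex_mul_dvd hq d k m K hK lam u w hdm hfr
      have hm : 1 ≤ m := by
        rcases Nat.eq_zero_or_pos m with h | h
        · rw [h, mul_zero] at hdm; omega
        · exact h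
      have hA0' : (subalgebraNormalizer K).relIndex (spGL d F) * spOrd (q ^ k) m ∣ spOrd q (k * m) := by
        rw [← hdm]; exact hA0
      obtain ⟨hc1, hc2⟩ := S.arith q k m _ r hq2 hk hm hr2 hrq hA0' hΩ
      rw [← hdm] at hc1
      obtain ⟨x, hx, hxr, hxns, hconj⟩ := S.exists_min_semisimple hq d hd r hr2 hrp hc1
      obtain ⟨g, hg, hgN⟩ := hall x hx (hone _ hxr) hxns
      obtain ⟨hker, hnd⟩ := hconj g hg
      have hyr := conj_pow_eq_one (Fin d ⊕ Fin d) x g r hxr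
      have hfin : Module.finrank F (LinearMap.range (Matrix.toLin'
          (((g⁻¹ * x * g : GL (Fin d ⊕ Fin d) F) : Matrix (Fin d ⊕ Fin d) (Fin d ⊕ Fin d) F) - 1))) +
          Module.finrank F (LinearMap.ker (Matrix.toLin'
          (((g⁻¹ * x * g : GL (Fin d ⊕ Fin d) F) : Matrix (Fin d ⊕ Fin d) (Fin d ⊕ Fin d) F) - 1))) = 2 * d := by
        rw [LinearMap.finrank_range_add_finrank_ker, Module.finrank_fintype_fun_eq_card, Fintype.card_sum,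
          Fintype.card_fin]
        ring
      rcases S.normalizer_dichotomy k hk K hK (g⁻¹ * x * g) hgN r hr (hone _ hyr) with hcomm | ⟨hrk, hfix⟩
      · -- `y` centralises `K`
        have h2k := S.two_mul_dvd_finrank d k K hS _
          (fun a ha w hw => range_invariant (Fin d ⊕ Fin d) _ a (hcomm a ha) w hw) hnd
        have : Module.finrank F (LinearMap.range (Matrix.toLin'
          (((g⁻¹ * x * g : GL (Fin d ⊕ Fin d) F) : Matrix (Fin d ⊕ Fin d) (Fin d ⊕ Fin d) F) - 1))) =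
            cOf (orderOf (q : ZMod r)) := by omega
        rw [this] at h2k
        exact hc2 h2k
      · -- `r = k`, Galois descent
        subst hrk
        have hO2 := S.mul_finrank_ker_le r K hK (g⁻¹ * x * g) hgN hfix
        rw [Fintype.card_sum, Fintype.card_fin] at hO2
        have hB2 := S.arith_eq q r hr2 hrq
        have hr3 : 3 ≤ r := by
          have := hr.two_le
          omega
        obtain ⟨k', rfl⟩ : ∃ k', r = k' + 3 := ⟨r - 3, by omega⟩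
        obtain ⟨m', rfl⟩ : ∃ m', m = m' + 1 := ⟨m - 1, by omega⟩
        set t := Module.finrank F (LinearMap.ker (Matrix.toLin'
          (((g⁻¹ * x * g : GL (Fin d ⊕ Fin d) F) : Matrix (Fin d ⊕ Fin d) (Fin d ⊕ Fin d) F) - 1))) with ht
        set c := cOf (orderOf (q : ZMod (k' + 3))) with hc
        have h1 : t + (k' + 3) ≥ 2 * d + 1 := by omega
        subst hdm
        have h2 : t ≤ 2 * (m' + 1) := by
          have : (k' + 3) * t ≤ (k' + 3) * (2 * (m' + 1)) := by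
            calc (k' + 3) * t ≤ (k' + 3) * (m' + 1) + (k' + 3) * (m' + 1) := hO2
              _ = (k' + 3) * (2 * (m' + 1)) := by ring
          exact Nat.le_of_mul_le_mul_left this (by omega)
        nlinarith [Nat.zero_le (k' * m')]
  · rintro ⟨rfl, rfl, rfl, hoddq⟩
    intro x hx ⟨z, hz⟩ hxns
    have hoddF : Odd (Fintype.card F) := by rw [hq]; exact hoddq
    have hp2 : p ≠ 2 := by
      intro h
      rw [hqn, h] at hoddq
      rcases Nat.eq_zero_or_pos (n : ℕ) with h0 | h0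
      · exact absurd h0 n.pos.ne'
      · exact (Nat.not_even_iff_odd.mpr hoddq) ((Nat.even_pow.mpr ⟨even_two, h0.ne'⟩))
    have h2F : (2 : F) ≠ 0 := by
      intro h0
      have h0' : ((2 : ℕ) : F) = 0 := by exact_mod_cast h0
      rw [CharP.cast_eq_zero_iff F p] at h0'
      exact hp2 ((Nat.prime_dvd_prime_iff_eq hp Nat.prime_two).mp h0')
    rw [pow_two, Units.val_mul] at hz
    obtain ⟨m, lam, u, w, hdm, hfr⟩ := S.exists_frame 2 2 (by norm_num) K hS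
    obtain rfl : m = 1 := by omega
    obtain ⟨⟨y, hy, hyN, hy2, hy1, hy1'⟩, ⟨y', hy', hy'N, hy'2⟩⟩ := S.exists_invols_of_frame h2F K hS lam u w hfr
    rcases sq_scalar 2 (by norm_num) x hx z hz with rfl | rfl
    · rw [one_smul] at hz
      have hx1 : (x : Matrix (Fin 2 ⊕ Fin 2) (Fin 2 ⊕ Fin 2) F) ≠ 1 := by
        intro h
        exact hxns 1 (by rw [h, one_smul])
      have hx1' : (x : Matrix (Fin 2 ⊕ Fin 2) (Fin 2 ⊕ Fin 2) F) ≠ -1 := by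
        intro h
        exact hxns (-1) (by rw [h, neg_smul, one_smul])
      obtain ⟨g, hg, hgy⟩ := S.sp4_invol_conj_pos hoddF x y hx hy hz hx1 hx1' hy2 hy1 hy1'
      exact ⟨g, hg, by rw [hgy]; exact hyN⟩
    · rw [neg_smul, one_smul] at hz
      obtain ⟨g, hg, hgy⟩ := S.sp4_invol_conj_neg hoddF x y' hx hy' hz hy'2
      exact ⟨g, hg, by rw [hgy]; exact hy'N⟩

end Cfsg.Agent.Lib.Helper38.SpF
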