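/-
K-SpF pack (S5975): assembly of the keystones into `skeys : SKeys`.
Architecture by helper38; keystones by helper84 (T1), helper89 (T3), helper65 (O2), helper53 (FR), helper91 (A0),
helper48 (B), helper57 (B2), helper21 (C1), helper67 (E), helper99 (I1, F1), helper68 (OI), helper9 (J1, J2).
-/
import Cfsg.Agent.Lib.Helper38.SpF.Glue
import Cfsg.Agent.Lib.Helper84.SpFT1
import Cfsg.Agent.Lib.Helper89.SpFT3
import Cfsg.Agent.Lib.Helper65.SpFO2
import Cfsg.Agent.Lib.Helper53.SpFFR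
import Cfsg.Agent.Lib.Helper91.SpFA0
import Cfsg.Agent.Lib.Helper48.SpFB
import Cfsg.Agent.Lib.Helper57.SpFB2
import Cfsg.Agent.Lib.Helper67.SpFE
import Cfsg.Agent.Lib.Helper21.SpFC1
import Cfsg.Agent.Lib.Helper68.SpFOI
import Cfsg.Agent.Lib.Helper99.SpFI1
import Cfsg.Agent.Lib.Helper99.SpFF1
import Cfsg.Agent.Lib.Helper09.SpFJ1
import Cfsg.Agent.Lib.Helper09.SpFJ2

set_option autoImplicit false
set_option linter.unusedVariables false

namespace Cfsg.Agent.Lib.Helper38.SpF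

open Cfsg Cfsg.Geo
open Cfsg.Agent.Lib.Helper49.SpInv (spOrd)
open scoped Matrix MatrixGroups

universe u

theorem skeys : SKeys.{u} where
  normalizer_dichotomy := fun k hk K hK y hy r hr hyr =>
    Cfsg.Agent.Lib.Helper84.SpF.normalizer_dichotomy k hk K hK y hy r hr hyr
  two_mul_dvd_finrank := fun d k K hS W hW hnd =>
    Cfsg.Agent.Lib.Helper89.SpF.two_mul_dvd_finrank d k K hS W hW hnd
  mul_finrank_ker_le := fun k K hK y hy hfix =>
    Cfsg.Agent.Lib.Helper65.SpF.mul_finrank_ker_le k K hK y hy hfix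
  exists_frame := fun d k hd K hS => Cfsg.Agent.Lib.Helper53.SpF.exists_frame d k hd K hS
  relIndex_mul_dvd := fun hq d k m K hK lam u w hdm hfr =>
    Cfsg.Agent.Lib.Helper91.SpF.relIndex_mul_dvd hq d k m K hK lam u w hdm hfr
  arith := fun q k m N r hq hk hm _ hr2 hrq hN hrN =>
    Cfsg.Agent.Lib.Helper48.SpF.arith q k m N r hq hk hm hr2 hrq hN hrN
  arith_eq := fun q k _ hk2 hkq => Cfsg.Agent.Lib.Helper57.SpF.arith_eq q k hk2 hkq
  exists_min_semisimple := fun hq d hd r _ hr2 hrp hcd =>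
    Cfsg.Agent.Lib.Helper21.SpF.exists_min_semisimple hq d hd r hr2 hrp hcd
  derange_unip := fun d hd k hk K hK => Cfsg.Agent.Lib.Helper67.SpF.derange_unip d hd k hk K hK
  exists_invol_two := fun h2 d hd => Cfsg.Agent.Lib.Helper99.SpF.exists_invol_two h2 d hd
  invol_obstruction := fun h2 d k hk K hS y hy hyN hy2 hker hT1 hT3 =>
    Cfsg.Agent.Lib.Helper68.SpF.invol_obstruction h2 d k hk K hS y hy hyN hy2 hker hT1 hT3
  exists_invols_of_frame := fun h2 K hS lam u w hfr =>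
    Cfsg.Agent.Lib.Helper99.SpF.exists_invols_of_frame h2 K hS lam u w hfr
  sp4_invol_conj_pos := fun hodd x y hx hy hx2 hx1 hx1' hy2 hy1 hy1' =>
    Cfsg.Agent.Lib.Helper09.SpF.sp4_invol_conj_pos hodd x y hx hy hx2 hx1 hx1' hy2 hy1 hy1'
  sp4_invol_conj_neg := fun hodd x y hx hy hx2 hy2 =>
    Cfsg.Agent.Lib.Helper09.SpF.sp4_invol_conj_neg hodd x y hx hy hx2 hy2

end Cfsg.Agent.Lib.Helper38.SpF
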